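import Mathlib
import Cfsg.Prelude.Def_TwoFusion
import Cfsg.Agent.Lib.Walter.Setup

/-!
# A centraliser with the shape `⟨t⟩ × Y`

The transfer to the abelian Sylow 2-subgroup splits off the central involution.
-/

set_option autoImplicit false
set_option linter.style.haveILetI false

namespace CfsgLib.CentralInter

open Subgroup

universe u

/-- A group of order eight of 2-rank at least three is elementary. -/
theorem elementary_of_card_eight {G : Type u} [Group G] [Finite G] (S : Sylow 2 G)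
    (h8 : Nat.card ↥(S : Subgroup G) = 8) (h2 : ¬ Cfsg.PRankLE 2 2 ↥(S : Subgroup G)) :
    ∀ x ∈ (S : Subgroup G), x ^ 2 = 1 := by
  simp only [Cfsg.PRankLE, not_forall, not_le] at h2
  obtain ⟨A, hAc, hA2, hAcard⟩ := h2
  have hAtop : A = ⊤ := by
    refine eq_top_of_card_eq _ (le_antisymm (card_le_card_group A) ?_)
    have hd : Nat.card A ∣ 8 := h8 ▸ A.card_subgroup_dvd_card
    have hle := Nat.le_of_dvd (by norm_num) hd
    interval_cases hk : Nat.card A <;> first | omega | norm_num at hd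
  intro x hx
  exact congrArg Subtype.val (hA2 ⟨x, hx⟩ (hAtop ▸ mem_top _))

/-- A central element outside of which an abelian Sylow subgroup has a complement has a complement. -/
theorem exists_complement {C : Type u} [Group C] [Finite C] (T : Subgroup C)
    (hcomm : ∀ x ∈ T, ∀ y ∈ T, x * y = y * x) (hsq : ∀ x ∈ T, x * x = 1) (hidx : Odd T.index)
    {t : C} (ht : t ∈ T) (ht1 : t ≠ 1) (htc : t ∈ center C) :
    ∃ E : Subgroup C, t ∉ E ∧ ∀ x, x ∈ E ∨ t * x ∈ E := by
  letI : CommGroup ↥T := { (inferInstance : Group ↥T) with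
    mul_comm := fun a b => Subtype.ext (hcomm a a.2 b b.2) }
  let τ : C →* ↥T := MonoidHom.transfer (MonoidHom.id ↥T)
  have hτ : τ t = ⟨t, ht⟩ := by
    show MonoidHom.transfer (MonoidHom.id ↥T) t = _
    rw [MonoidHom.transfer_eq_pow _ t fun k g _ => by
      rw [mul_assoc, ← mem_center_iff.1 (pow_mem htc k) g, inv_mul_cancel_left]]
    refine Subtype.ext ?_
    show t ^ T.index = t
    obtain ⟨m, hm⟩ := hidx
    rw [hm, pow_succ, pow_mul, pow_two, hsq t ht, one_pow, one_mul]
  have ht' : (⟨t, ht⟩ : ↥T) ∉ (⊥ : Subgroup ↥T) := fun h =>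
    ht1 (congrArg Subtype.val (mem_bot.1 h))
  obtain ⟨U, -, hU, hUmax⟩ := Finite.exists_le_maximal (p := fun U : Subgroup ↥T => (⟨t, ht⟩ : ↥T) ∉ U) ht'
  have hcases : ∀ x : ↥T, x ∈ U ∨ ⟨t, ht⟩ * x ∈ U := by
    intro x
    by_contra hc
    push Not at hc
    have h1 : (⟨t, ht⟩ : ↥T) ∈ U ⊔ zpowers x := by
      by_contra h2
      exact hc.1 (hUmax h2 le_sup_left (mem_sup_right (mem_zpowers x)))
    obtain ⟨v, hv, w, hw, e⟩ := mem_sup.1 h1
    obtain ⟨j, rfl⟩ := mem_zpowers_iff.1 hw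
    have hx2 : x * x = 1 := Subtype.ext (hsq x x.2)
    rcases Int.even_or_odd j with ⟨i, rfl⟩ | ⟨i, rfl⟩
    · rw [← two_mul, zpow_mul, zpow_two, hx2, one_zpow, mul_one] at e
      exact hU (e ▸ hv)
    · rw [zpow_add, zpow_mul, zpow_two, hx2, one_zpow, one_mul, zpow_one] at e
      refine hc.2 ?_
      rw [← e, mul_assoc, hx2, mul_one]
      exact hv
  refine ⟨U.comap τ, fun h => hU (hτ ▸ mem_comap.1 h), fun x => ?_⟩
  rcases hcases (τ x) with h | h
  · exact Or.inl (mem_comap.2 h)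
  · exact Or.inr (mem_comap.2 (by rwa [map_mul, hτ]))

/-- With trivial core `C(t) = ⟨t⟩ × E` and `E` has a self-centralising normal `PSL(2, q)`. -/
theorem exists_factor {G : Type u} [Group G] [Finite G] (E : Walter.Setup G)
    (Sh : Walter.Shape (E.S : Subgroup G) E.t) (hW : E.W = ⊥) :
    ∃ K : Subgroup G, Cfsg.IsInternalDirectProduct (zpowers E.t) K (centralizer ({E.t} : Set G)) ∧
      ∃ (F : Type) (_ : Field F) (_ : Fintype F), Odd (Fintype.card F) ∧ 3 < Fintype.card F ∧
        ∃ N : Subgroup ↥K, N.Normal ∧ Nonempty (↥N ≃* Matrix.ProjectiveSpecialLinearGroup (Fin 2) F) ∧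
          centralizer (N : Set ↥K) = ⊥ := by
  have : Fact (Nat.Prime 2) := ⟨Nat.prime_two⟩
  letI := Sh.grp
  letI := Sh.fin
  letI := Sh.field
  letI := Sh.fintype
  set C := centralizer ({E.t} : Set G)
  let T : Sylow 2 C := E.S.subtype (E.sylow_le_centralizer E.mem)
  let t' : C := ⟨E.t, mem_centralizer_singleton_iff.2 rfl⟩
  have htt : t' * t' = 1 := Subtype.ext (E.sq _ E.mem)
  obtain ⟨K₀, htK, hcov⟩ := exists_complement (T : Subgroup C)
    (fun x hx y hy => Subtype.ext (E.comm hx hy)) (fun x hx => Subtype.ext (E.sq _ hx))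
    (by rw [← Nat.not_even_iff_odd, even_iff_two_dvd]; exact T.not_dvd_index)
    (t := t') E.mem (fun e => E.ne (congrArg Subtype.val e))
    (mem_center_iff.2 fun g => Subtype.ext (mem_centralizer_singleton_iff.1 g.2))
  have hker : ∀ x : C, Sh.π x = 1 ↔ x = 1 ∨ x = t' := by
    intro x
    have hc : Walter.Setup.W E = GW.coreIn C := rfl
    rw [hW] at hc
    rw [Sh.ker, ← hc, mem_bot, mem_bot]
    constructor
    · rintro (h | h)
      · exact Or.inl (Subtype.ext h)
      · refine Or.inr (Subtype.ext ?_)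
        show (x : G) = E.t
        rw [eq_inv_of_mul_eq_one_left h, inv_eq_of_mul_eq_one_right (E.sq _ E.mem)]
    · rintro (rfl | rfl)
      · exact Or.inl rfl
      · exact Or.inr (E.sq _ E.mem)
  let f : ↥K₀ →* Sh.Y := Sh.π.comp K₀.subtype
  have hf : Function.Bijective f := by
    refine ⟨(injective_iff_map_eq_one f).2 fun x hx => ?_, fun y => ?_⟩
    · rcases (hker x).1 hx with h | h
      · exact Subtype.ext h
      · exact absurd (h ▸ x.2) htK
    · obtain ⟨x, rfl⟩ := Sh.surj y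
      rcases hcov x with h | h
      · exact ⟨⟨x, h⟩, rfl⟩
      · refine ⟨⟨t' * x, h⟩, ?_⟩
        show Sh.π (t' * x) = Sh.π x
        rw [map_mul, (hker t').2 (Or.inr rfl), one_mul]
  set K := K₀.map C.subtype
  have hKC : K ≤ C := map_subtype_le _
  refine ⟨K, ⟨zpowers_le.2 (mem_centralizer_singleton_iff.2 rfl), hKC, ?_, ?_, ?_⟩, Sh.F, Sh.field,
    Sh.fintype, Sh.psl.odd, Sh.psl.three, ?_⟩
  · intro a ha b hb
    obtain ⟨i, rfl⟩ := mem_zpowers_iff.1 ha
    exact ((show Commute E.t b from (mem_centralizer_singleton_iff.1 (hKC hb)).symm).zpow_left i).eq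
  · rw [eq_bot_iff]
    rintro a ⟨ha, b, hb, rfl⟩
    obtain ⟨i, hi⟩ := mem_zpowers_iff.1 ha
    have hb' : b = t' ^ i := Subtype.ext (by rw [Subgroup.coe_zpow]; exact hi.symm)
    rw [hb'] at hb ⊢
    rcases Int.even_or_odd i with ⟨j, rfl⟩ | ⟨j, rfl⟩
    · rw [mem_bot, ← two_mul, zpow_mul, zpow_two, htt, one_zpow, map_one]
    · rw [zpow_add, zpow_mul, zpow_two, htt, one_zpow, one_mul, zpow_one] at hb
      exact absurd hb htK
  · refine le_antisymm (sup_le (zpowers_le.2 (mem_centralizer_singleton_iff.2 rfl)) hKC) fun x hx => ?_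
    rcases hcov ⟨x, hx⟩ with h | h
    · exact mem_sup_right ⟨_, h, rfl⟩
    · rw [show x = E.t * (E.t * x) by rw [← mul_assoc, E.sq _ E.mem, one_mul]]
      exact mul_mem (mem_sup_left (mem_zpowers _)) (mem_sup_right ⟨_, h, rfl⟩)
  · let g : ↥K ≃* Sh.Y := (K₀.equivMapOfInjective C.subtype C.subtype_injective).symm.trans
      (MulEquiv.ofBijective f hf)
    refine ⟨Sh.L.comap g.toMonoidHom, Sh.psl.normal.comap _, ?_, ?_⟩
    · obtain ⟨e⟩ := Sh.psl.equiv
      exact ⟨(((Sh.L.comap g.toMonoidHom).equivMapOfInjective g.toMonoidHom g.injective).trans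
        (MulEquiv.subgroupCongr (map_comap_eq_self_of_surjective g.surjective _))).trans e⟩
    · refine (eq_bot_iff_forall _).2 fun x hx => g.injective ?_
      rw [map_one, ← mem_bot, ← Sh.psl.cent]
      refine mem_centralizer_iff.2 fun y hy => ?_
      obtain ⟨y, rfl⟩ := g.surjective y
      rw [← map_mul, ← map_mul, mem_centralizer_iff.1 hx y (mem_comap.2 hy)]

end CfsgLib.CentralInter
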