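import Mathlib
import Cfsg.Agent.Lib.Walter.RankFour.Assembly
import Cfsg.Agent.Lib.CentralInter.Split
import Cfsg.Agent.Lib.ClassicalGroups.SmallIso

/-!
# Simple groups with central Sylow 2-intersections: the abelian branch

With abelian Sylow 2-subgroups the groups of the order of a Ree group or of `J₁` have a maximal
centraliser `⟨t⟩ × E` with `PSL(2, q) ≤ E`.
-/

set_option autoImplicit false
set_option linter.style.haveILetI false

namespace CfsgLib.CentralInter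

open Subgroup

universe u

/-- A Sylow 2-subgroup of a group of order `8 m`, `m` odd, has order eight. -/
theorem card_sylow_eight {G : Type u} [Group G] [Finite G] (S : Sylow 2 G) {m : ℕ} (hm : Odd m)
    (hG : Nat.card G = 8 * m) : Nat.card ↥(S : Subgroup G) = 8 := by
  have : Fact (Nat.Prime 2) := ⟨Nat.prime_two⟩
  have h1 := (S : Subgroup G).card_mul_index
  rw [hG] at h1
  obtain ⟨k, hk⟩ := IsPGroup.iff_card.1 S.2
  refine Nat.dvd_antisymm ?_ ?_
  · refine Nat.Coprime.dvd_of_dvd_mul_right ?_ (Dvd.intro _ h1)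
    rw [hk]
    exact (Nat.coprime_two_left.2 hm).pow_left k
  · refine Nat.Coprime.dvd_of_dvd_mul_right ?_ (h1 ▸ dvd_mul_right 8 m)
    rw [show (8 : ℕ) = 2 ^ 3 by norm_num]
    exact (Nat.prime_two.coprime_iff_not_dvd.2 S.not_dvd_index).pow_left 3

/-- The order of a Ree group or of `J₁` is eight times an odd number. -/
theorem card_eq_eight_mul {G : Type u} [Group G] (h : Cfsg.IsRee G ∨ Cfsg.IsJ1 G) :
    ∃ m, Odd m ∧ Nat.card G = 8 * m := by
  rcases h with ⟨-, j, -, hc⟩ | ⟨-, hc⟩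
  · obtain ⟨k, hk⟩ : ∃ k, 9 ^ j = 8 * k + 1 := ⟨9 ^ j / 8, by
      have h9 : 9 ^ j % 8 = 1 := by rw [Nat.pow_mod]; norm_num
      omega⟩
    have hq : 3 ^ (2 * j + 1) = 24 * k + 3 := by
      rw [pow_succ, pow_mul, show (3 : ℕ) ^ 2 = 9 by norm_num, hk]; ring
    refine ⟨(24 * k + 3) ^ 3 * (2 * (1728 * k ^ 3 + 648 * k ^ 2 + 81 * k + 3) + 1) * (12 * k + 1),
      ?_, ?_⟩
    · exact ((Odd.pow ⟨12 * k + 1, by ring⟩).mul ⟨_, rfl⟩).mul ⟨6 * k, by ring⟩
    · rw [hc, hq, show 24 * k + 3 - 1 = 2 * (12 * k + 1) by omega]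
      ring
  · exact ⟨21945, by decide, hc⟩

/-- The abelian branch, from Walter's theorem and the rank three facts. -/
theorem abelian_branch {G : Type u} [Group G] [Finite G] [IsSimpleGroup G]
    (hG : ¬ IsMulCommutative G)
    (hWalter : ∀ S : Sylow 2 G, IsMulCommutative (S : Subgroup G) →
      (∃ a : ℕ, 2 ≤ a ∧ ∃ (F : Type) (_ : Field F) (_ : Fintype F), Fintype.card F = 2 ^ a ∧
          Nonempty (G ≃* Matrix.ProjectiveSpecialLinearGroup (Fin 2) F)) ∨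
        (∃ (F : Type) (_ : Field F) (_ : Fintype F), (Fintype.card F % 8 = 3 ∨ Fintype.card F % 8 = 5) ∧
          Nonempty (G ≃* Matrix.ProjectiveSpecialLinearGroup (Fin 2) F)) ∨
        Cfsg.IsRee G ∨ Cfsg.IsJ1 G)
    (hloc : ∀ E : Walter.Setup G, Walter.Local E)
    (hW : ∀ E : Walter.Setup G, E.W = ⊥)
    (hmax : ∀ E : Walter.Setup G, IsCoatom E.H)
    (hab : ∀ S : Sylow 2 G, IsMulCommutative ↥(S : Subgroup G)) :
    (∃ (F : Type) (_ : Field F) (_ : Fintype F),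
        (Fintype.card F % 8 = 0 ∨ Fintype.card F % 8 = 3 ∨ Fintype.card F % 8 = 5) ∧
        Nonempty (G ≃* Matrix.ProjectiveSpecialLinearGroup (Fin 2) F)) ∨
    ((∀ S : Sylow 2 G, IsMulCommutative ↥(S : Subgroup G)) ∧
      ∃ t : G, orderOf t = 2 ∧ IsCoatom (centralizer ({t} : Set G)) ∧
        ∃ E : Subgroup G, Cfsg.IsInternalDirectProduct (zpowers t) E (centralizer ({t} : Set G)) ∧
          ∃ (F : Type) (_ : Field F) (_ : Fintype F), Odd (Fintype.card F) ∧ 3 < Fintype.card F ∧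
            ∃ N : Subgroup ↥E, N.Normal ∧ Nonempty (↥N ≃* Matrix.ProjectiveSpecialLinearGroup (Fin 2) F) ∧
              centralizer (N : Set ↥E) = ⊥) := by
  have : Fact (Nat.Prime 2) := ⟨Nat.prime_two⟩
  have hns : ¬ Group.IsSolvable G := fun hs =>
    hG ⟨⟨fun a b => IsSimpleGroup.comm_iff_isSolvable.2 hs a b⟩⟩
  obtain ⟨S⟩ := (inferInstance : Nonempty (Sylow 2 G))
  have hcomm : ∀ x ∈ (S : Subgroup G), ∀ y ∈ (S : Subgroup G), x * y = y * x := fun x hx y hy =>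
    congrArg Subtype.val ((hab S).is_comm.comm (⟨x, hx⟩ : (S : Subgroup G)) ⟨y, hy⟩)
  have hgood : ∀ (F : Type) [Field F] [Fintype F], SylTwoAbel.GoodCard (Fintype.card F) →
      Fintype.card F % 8 = 0 ∨ Fintype.card F % 8 = 3 ∨ Fintype.card F % 8 = 5 ∨
        Fintype.card F = 4 := by
    intro F _ _ hq
    rcases hq with ⟨hq, -⟩ | ⟨n, hn, hq⟩
    · omega
    · rcases eq_or_ne n 2 with rfl | h2
      · right; right; right; rw [hq]; norm_num
      · left
        rw [hq]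
        exact Nat.mod_eq_zero_of_dvd ((show 8 = 2 ^ 3 by norm_num) ▸ pow_dvd_pow 2 (by omega))
  -- `PSL(2,4) ≅ PSL(2,5)`
  have hfour : ∀ (F : Type) [Field F] [Fintype F], Fintype.card F = 4 →
      ∀ _ : G ≃* Matrix.ProjectiveSpecialLinearGroup (Fin 2) F,
      ∃ (F : Type) (_ : Field F) (_ : Fintype F),
        (Fintype.card F % 8 = 0 ∨ Fintype.card F % 8 = 3 ∨ Fintype.card F % 8 = 5) ∧
        Nonempty (G ≃* Matrix.ProjectiveSpecialLinearGroup (Fin 2) F) := by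
    intro F iF iFt h4 e
    haveI : Fact (Nat.Prime 5) := ⟨by norm_num⟩
    obtain ⟨e4⟩ := CfsgLib.ClassicalGroups.psl_two_four_alternating (K := F) h4
    obtain ⟨e5⟩ := CfsgLib.ClassicalGroups.psl_two_five_alternating (K := ZMod 5) (ZMod.card 5)
    exact ⟨ZMod 5, inferInstance, inferInstance, by rw [ZMod.card]; norm_num,
      ⟨e.trans (e4.trans e5.symm)⟩⟩
  have psl_ok : ∀ (F : Type) [Field F] [Fintype F], SylTwoAbel.GoodCard (Fintype.card F) →
      (G ≃* Matrix.ProjectiveSpecialLinearGroup (Fin 2) F) →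
      ∃ (F : Type) (_ : Field F) (_ : Fintype F),
        (Fintype.card F % 8 = 0 ∨ Fintype.card F % 8 = 3 ∨ Fintype.card F % 8 = 5) ∧
        Nonempty (G ≃* Matrix.ProjectiveSpecialLinearGroup (Fin 2) F) := by
    intro F iF iFt hq e
    rcases hgood F hq with h | h | h | h
    exacts [⟨F, iF, iFt, Or.inl h, ⟨e⟩⟩, ⟨F, iF, iFt, Or.inr (Or.inl h), ⟨e⟩⟩,
      ⟨F, iF, iFt, Or.inr (Or.inr h), ⟨e⟩⟩, hfour F h e]
  rcases hWalter S (hab S) with ⟨a, ha, F, iF, iFt, hF, ⟨e⟩⟩ | ⟨F, iF, iFt, hF, ⟨e⟩⟩ | hRJ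
  · exact Or.inl (@psl_ok F iF iFt (Or.inr ⟨a, ha, hF⟩) e)
  · exact Or.inl ⟨F, iF, iFt, Or.inr hF, ⟨e⟩⟩
  obtain ⟨m, hm, hcard⟩ := card_eq_eight_mul hRJ
  have h8 := card_sylow_eight S hm hcard
  by_cases h2 : Cfsg.PRankLE 2 2 ↥(S : Subgroup G)
  · obtain ⟨F, iF, iFt, hF, he⟩ := Walter.RankFour.exists_psl_of_rank_two hG S hcomm h2
    exact Or.inl ⟨F, iF, iFt, Or.inr hF, he⟩
  by_cases hC : ∀ t : G, orderOf t = 2 → Group.IsSolvable ↥(centralizer ({t} : Set G))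
  · obtain ⟨F, iF, iFt, hq, ⟨e⟩⟩ :=
      SylTwoAbel.exists_psl_of_simple GW.Done.classification hns S hcomm hC
    exact Or.inl (@psl_ok F iF iFt hq e)
  have hel : ∀ x ∈ (S : Subgroup G), x ^ 2 = 1 := elementary_of_card_eight S h8 h2
  obtain ⟨E, -⟩ := Walter.RankFour.exists_setup hG S h8 hel
    (Walter.RankFour.exists_mem_not_isSolvable S hC)
  obtain ⟨Sh⟩ := (hloc E).shape E.t E.mem E.ne
  exact Or.inr ⟨hab, E.t, E.orderOf_t, hmax E, exists_factor E Sh (hW E)⟩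

end CfsgLib.CentralInter
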