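import Mathlib
import Cfsg.Agent.S3181
import Cfsg.Agent.Lib.PF.OddOrder

/-!
# Simple groups with central Sylow 2-intersections: the non-abelian branch

From the structure theorem for central Sylow 2-intersections: such a simple group has abelian Sylow
2-subgroups or is a Suzuki group or `PSU₃(2^n)`.
-/

set_option autoImplicit false
set_option linter.style.haveILetI false

namespace CfsgLib.CentralInter

open Subgroup

universe u

variable {G : Type u} [Group G] [Finite G]

/-- Commuting subgroups generating the group, one of them abelian: that one is central. -/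
theorem le_center_of_sup_eq_top {A L : Subgroup G} (hA : IsMulCommutative ↥A)
    (hc : ∀ a ∈ A, ∀ l ∈ L, a * l = l * a) (hsup : A ⊔ L = ⊤) : A ≤ center G := by
  intro a ha
  have h1 : A ⊔ L ≤ centralizer ({a} : Set G) := sup_le
    (fun b hb => mem_centralizer_singleton_iff.2
      (congrArg Subtype.val (hA.is_comm.comm (⟨b, hb⟩ : A) ⟨a, ha⟩)))
    (fun l hl => mem_centralizer_singleton_iff.2 (hc a ha l hl).symm)
  rw [hsup] at h1
  exact mem_center_iff.2 fun g => mem_centralizer_singleton_iff.1 (h1 (mem_top g))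

/-- The non-abelian branch. -/
theorem abelian_or_suzuki_or_unitary [IsSimpleGroup G] (hG : ¬ IsMulCommutative G)
    (hCI : ∀ S T : Sylow 2 G, S ≠ T → ∃ U : Sylow 2 G,
      (S : Subgroup G) ⊓ (T : Subgroup G) ≤ (Subgroup.center ↥(U : Subgroup G)).map (U : Subgroup G).subtype) :
    (∀ S : Sylow 2 G, IsMulCommutative ↥(S : Subgroup G)) ∨
      (∃ (m : ℕ) (F : Type) (_ : Field F) (_ : Fintype F), 1 ≤ m ∧ Fintype.card F = 2 ^ (2 * m + 1) ∧
        Nonempty (G ≃* ↥(Cfsg.Lie.Sz F (2 ^ (m + 1))))) ∨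
      (∃ (n : ℕ) (F : Type) (_ : Field F) (_ : Fintype F), 2 ≤ n ∧ Fintype.card F = 4 ^ n ∧
        Nonempty (G ≃* Cfsg.PSU 3 F (2 ^ n))) := by
  have : Fact (Nat.Prime 2) := ⟨Nat.prime_two⟩
  have hns : ¬ Group.IsSolvable G := fun h =>
    hG ⟨⟨fun a b => IsSimpleGroup.comm_iff_isSolvable.2 h a b⟩⟩
  have hZ : center G = ⊥ :=
    (inferInstance : (center G).Normal).eq_bot_or_eq_top.resolve_right fun h =>
      hG ⟨⟨fun x y => mem_center_iff.1 (h ▸ mem_top y : y ∈ center G) x⟩⟩
  have hodd : ¬ Odd (Nat.card G) := fun ho => hns (@CfsgLib.PF.oddSolvable.{u} G _ _ ho)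
  have htop : ∀ M : Subgroup G, M.Normal → Odd M.index → M = ⊤ := fun M hM hi =>
    hM.eq_bot_or_eq_top.resolve_left fun h => hodd (by rwa [h, index_bot] at hi)
  rcases Cfsg.Agent.S3181.result hCI with ⟨hs, -⟩ | hab | ⟨N, M, hN, hM, hNM, hlt, -, hMi, A, L, hA, -, ⟨e⟩, hAL, hsup⟩ |
    ⟨M, hM, hMi, A, L, hA, -, hcases⟩
  · exact absurd hs hns
  · exact Or.inl hab
  · exfalso
    obtain rfl := htop M hM hMi
    obtain rfl := hN.eq_bot_or_eq_top.resolve_right hlt.ne
    haveI := hNM
    let f : (↥(⊤ : Subgroup G) ⧸ (⊥ : Subgroup G).subgroupOf ⊤) ≃* G :=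
      (QuotientGroup.quotientMulEquivOfEq (bot_subgroupOf ⊤)).trans
        (QuotientGroup.quotientBot.trans topEquiv)
    have hA1 : A = ⊥ := (eq_bot_iff_forall _).2 fun a ha => by
      have h1 : f a ∈ center G := mem_center_iff.2 fun g => by
        obtain ⟨g, rfl⟩ := f.surjective g
        rw [← map_mul, ← map_mul, mem_center_iff.1 (le_center_of_sup_eq_top hA hAL hsup ha) g]
      rwa [hZ, mem_bot, map_eq_one_iff f f.injective] at h1
    rw [hA1, bot_sup_eq] at hsup
    let g : Matrix.SpecialLinearGroup (Fin 2) (ZMod 5) ≃* G :=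
      e.symm.trans ((MulEquiv.subgroupCongr hsup).trans (topEquiv.trans f))
    have h1 : g (-1) ∈ center G := mem_center_iff.2 fun x => by
      obtain ⟨x, rfl⟩ := g.surjective x
      rw [← map_mul, ← map_mul, mul_neg_one, neg_one_mul]
    rw [hZ, mem_bot, map_eq_one_iff g g.injective] at h1
    exact absurd (congrArg (fun x : Matrix.SpecialLinearGroup (Fin 2) (ZMod 5) => x.1 0 0) h1) (by decide)
  · obtain rfl := htop M hM hMi
    have key : (∀ a ∈ A, ∀ l ∈ L, a * l = l * a) → A ⊔ L = ⊤ → L = ⊤ := fun hc hsup => by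
      have h1 := le_center_of_sup_eq_top hA hc hsup
      rw [hZ, le_bot_iff] at h1
      rwa [h1, bot_sup_eq] at hsup
    rcases hcases with ⟨⟨-, -, hc, -, hsup⟩, hL⟩ | ⟨-, -, hc, hsup, -, hcen, -⟩
    · obtain rfl := key hc hsup
      rcases hL with ⟨m, F, i1, i2, hm, hF, ⟨e⟩⟩ | ⟨n, F, i1, i2, hn, hF, h⟩
      · exact Or.inr (Or.inl ⟨m, F, i1, i2, hm, hF, ⟨topEquiv.symm.trans e⟩⟩)
      · refine Or.inr (Or.inr ⟨n, F, i1, i2, hn, hF, ?_⟩)
        rcases h with ⟨⟨e⟩⟩ | ⟨⟨e⟩⟩
        · exact ⟨topEquiv.symm.trans e⟩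
        · let e' : G ≃* ↥(Cfsg.SU 3 F (2 ^ n)) := topEquiv.symm.trans e
          have hc' : center ↥(Cfsg.SU 3 F (2 ^ n)) = ⊥ := (eq_bot_iff_forall _).2 fun x hx => by
            have h1 : e'.symm x ∈ center G := mem_center_iff.2 fun g => by
              apply e'.injective
              rw [map_mul, map_mul, e'.apply_symm_apply, mem_center_iff.1 hx (e' g)]
            rwa [hZ, mem_bot, map_eq_one_iff e'.symm e'.symm.injective] at h1
          exact ⟨e'.trans ((QuotientGroup.quotientMulEquivOfEq hc').trans QuotientGroup.quotientBot).symm⟩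
    · exfalso
      obtain rfl := key hc hsup
      refine hcen ((eq_bot_iff_forall _).2 fun x hx => ?_)
      have h1 : (x : G) ∈ center G :=
        mem_center_iff.2 fun g => congrArg Subtype.val (mem_center_iff.1 hx ⟨g, mem_top g⟩)
      rw [hZ, mem_bot] at h1
      exact Subtype.ext h1

end CfsgLib.CentralInter
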