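import Mathlib
import Cfsg.Agent.Lib.CentralInter.Main
import Cfsg.Agent.Lib.Walter.CoreGoal
import Cfsg.Agent.Lib.Walter.RankFour.Assembly

/-!
# Simple groups with central Sylow 2-intersections, from the three rank three inputs
-/

set_option autoImplicit false

namespace CfsgLib.CentralInter

open Subgroup Walter

universe u

/-- The classification, from the inputs of Walter's theorem. -/
theorem classification_of (hD : CoreFree.{u}) (hF : FieldFree.{u}) (hO : OrderTheorem.{u})
    {G : Type u} [Group G] [Finite G] [IsSimpleGroup G] (hG : ¬ IsMulCommutative G)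
    (hCI : ∀ S T : Sylow 2 G, S ≠ T → ∃ U : Sylow 2 G,
      (S : Subgroup G) ⊓ (T : Subgroup G) ≤ (Subgroup.center ↥(U : Subgroup G)).map (U : Subgroup G).subtype) :
    (∃ (F : Type) (_ : Field F) (_ : Fintype F),
        (Fintype.card F % 8 = 0 ∨ Fintype.card F % 8 = 3 ∨ Fintype.card F % 8 = 5) ∧
        Nonempty (G ≃* Matrix.ProjectiveSpecialLinearGroup (Fin 2) F)) ∨
    ((∀ S : Sylow 2 G, IsMulCommutative ↥(S : Subgroup G)) ∧
      ∃ t : G, orderOf t = 2 ∧ IsCoatom (Subgroup.centralizer ({t} : Set G)) ∧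
        ∃ E : Subgroup G, Cfsg.IsInternalDirectProduct (Subgroup.zpowers t) E (Subgroup.centralizer ({t} : Set G)) ∧
          ∃ (F : Type) (_ : Field F) (_ : Fintype F), Odd (Fintype.card F) ∧ 3 < Fintype.card F ∧
            ∃ N : Subgroup ↥E, N.Normal ∧ Nonempty (↥N ≃* Matrix.ProjectiveSpecialLinearGroup (Fin 2) F) ∧
              Subgroup.centralizer (N : Set ↥E) = ⊥) ∨
    (∃ (m : ℕ) (F : Type) (_ : Field F) (_ : Fintype F), 1 ≤ m ∧ Fintype.card F = 2 ^ (2 * m + 1) ∧
        Nonempty (G ≃* ↥(Cfsg.Lie.Sz F (2 ^ (m + 1))))) ∨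
    (∃ (n : ℕ) (F : Type) (_ : Field F) (_ : Fintype F), 2 ≤ n ∧ Fintype.card F = 4 ^ n ∧
        Nonempty (G ≃* Cfsg.PSU 3 F (2 ^ n))) :=
  classification hG (fun S hS => RankFour.walter_of hD hF hO hG S hS) (fun E => E.local_structure)
    (fun E => hD G E E.local_structure (E.isCoatom_all (smallCore hD G)))
    (fun E => E.isCoatom_H (smallCore hD G)) hCI

end CfsgLib.CentralInter
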